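import Cfsg.Agent.H775.PU.Bound_m3
import Cfsg.Agent.H802.FusEss
import Cfsg.Agent.EvenType.StrongP
import Cfsg.Agent.S2789
import Cfsg.Agent.S2779
import Cfsg.Agent.H569.NatSL2
import Cfsg.Agent.FastGrp
import Cfsg.Agent.Prune
set_option linter.all false
prune_inst 0x7ffdfefbbff8bddfffff7ffffffddffffff8ffffffdffffbfffcfbff7fff6b06fff5fbbffffbd0ff7ff7f2be36f87bd3f9ffceffeffbdc7ffffd5ff47fffff9fffffbfac71d7bc3e1ffe6ffffbf97fce7f3fffffffffffffffffffffffffffbeffffffffffff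
open scoped Cfsg.Agent.FastGrp

-- part: H52/PU/FF
section
/-!
# S5258 (G2): the failure-of-factorization lemma, reduction to the abstract statement (helper52)
-/

set_option autoImplicit false

namespace Cfsg.Agent.H52.PU

open Cfsg Cfsg.FusionSystem Cfsg.Agent.H756.PU Cfsg.Agent.H802

universe u

/-! ### generalities -/

/-- the induced action on a quotient -/
def quoAct {G M₀ : Type*} [Group G] [Group M₀] (ρ : G →* MulAut M₀) (N₀ : Subgroup M₀) [N₀.Normal]
    (h : ∀ g : G, ∀ n ∈ N₀, ρ g n ∈ N₀) : G →* MulAut (M₀ ⧸ N₀) where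
  toFun g := QuotientGroup.congr N₀ N₀ (ρ g) (by
    apply le_antisymm
    · rintro _ ⟨n, hn, rfl⟩
      exact h g n hn
    · intro n hn
      refine ⟨ρ g⁻¹ n, h g⁻¹ n hn, ?_⟩
      show ρ g (ρ g⁻¹ n) = n
      rw [map_inv]
      exact (ρ g).apply_symm_apply n)
  map_one' := by
    ext x
    induction x using QuotientGroup.induction_on with
    | _ m => show ((ρ 1 m : M₀) : M₀ ⧸ N₀) = _; rw [map_one]; rfl
  map_mul' a b := by
    ext x
    induction x using QuotientGroup.induction_on with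
    | _ m => show ((ρ (a * b) m : M₀) : M₀ ⧸ N₀) = _; rw [map_mul]; rfl

/-- the `p`-part of an element whose image has order dividing `p` -/
theorem exists_p_lift {G K : Type*} [Group G] [Finite G] [Group K] {p : ℕ} [hp : Fact p.Prime] (f : G →* K) (x : G)
    (hx : (f x) ^ p = 1) : ∃ n : ℕ, f (x ^ n) = f x ∧ ∃ k : ℕ, (x ^ n) ^ p ^ k = 1 := by
  obtain ⟨k, r, hr, hN⟩ := Nat.exists_eq_pow_mul_and_not_dvd (orderOf_pos x).ne' p hp.out.ne_one
  have hco : Nat.Coprime r p := ((Nat.Prime.coprime_iff_not_dvd hp.out).2 hr).symm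
  obtain ⟨n, hn1, hn2⟩ := Nat.chineseRemainder hco 0 1
  refine ⟨n, ?_, k, ?_⟩
  · rw [map_pow]
    obtain ⟨t, ht⟩ | ⟨t, ht⟩ : (∃ t, n = 1 + p * t) ∨ ∃ t, 1 = n + p * t := by
      rcases le_total 1 n with h | h
      · left
        obtain ⟨t, ht⟩ := (Nat.modEq_iff_dvd' h).1 hn2.symm
        exact ⟨t, by omega⟩
      · right
        obtain ⟨t, ht⟩ := (Nat.modEq_iff_dvd' h).1 hn2
        exact ⟨t, by omega⟩
    · rw [ht, pow_add, pow_mul, hx, one_pow, pow_one, mul_one]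
    · conv_rhs => rw [← pow_one (f x), ht, pow_add, pow_mul, hx, one_pow, mul_one]
  · have h1 : r ∣ n := (Nat.modEq_zero_iff_dvd).1 hn1
    obtain ⟨s, rfl⟩ := h1
    rw [← pow_mul, show r * s * p ^ k = (p ^ k * r) * s by ring, ← hN, pow_mul, pow_orderOf_eq_one, one_pow]

section

variable {Ω : Type u} [Group Ω] {S E : Subgroup Ω} {p : ℕ} {Γ : Subgroup (MulAut E)}

/-- the action of `Γ` on an invariant subgroup -/
def resAct {M : Subgroup Ω} (hM : _root_.Cfsg.Agent.H756.PU.Inv Γ M) : Γ →* MulAut M where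
  toFun γ :=
    { toFun := fun m => ⟨((γ.1 ⟨m, hM.1 m.2⟩ : E) : Ω), hM.2 γ.1 γ.2 _ m.2⟩
      invFun := fun m => ⟨(((γ⁻¹).1 ⟨m, hM.1 m.2⟩ : E) : Ω), hM.2 (γ⁻¹).1 (γ⁻¹).2 _ m.2⟩
      left_inv := fun m => by
        apply Subtype.ext
        show (((γ⁻¹).1 (γ.1 ⟨m, hM.1 m.2⟩) : E) : Ω) = m
        rw [← MulAut.mul_apply]
        have : (γ⁻¹).1 * γ.1 = 1 := inv_mul_cancel γ.1
        rw [this]; rfl
      right_inv := fun m => by
        apply Subtype.ext
        show ((γ.1 ((γ⁻¹).1 ⟨m, hM.1 m.2⟩) : E) : Ω) = m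
        rw [← MulAut.mul_apply]
        have : γ.1 * (γ⁻¹).1 = 1 := mul_inv_cancel γ.1
        rw [this]; rfl
      map_mul' := fun m m' => by
        apply Subtype.ext
        have : (⟨((m * m' : M) : Ω), hM.1 (m * m').2⟩ : E) = ⟨m, hM.1 m.2⟩ * ⟨m', hM.1 m'.2⟩ := rfl
        show ((γ.1 ⟨((m * m' : M) : Ω), hM.1 (m * m').2⟩ : E) : Ω) = _
        rw [this, map_mul]; rfl }
  map_one' := by ext m; rfl
  map_mul' a b := by ext m; rfl

theorem resAct_apply {M : Subgroup Ω} (hM : _root_.Cfsg.Agent.H756.PU.Inv Γ M) (γ : Γ) (m : M) :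
    ((resAct hM γ m : M) : Ω) = ((γ.1 ⟨m, hM.1 m.2⟩ : E) : Ω) := rfl

theorem finE (h : Ess S E p Γ) : Finite E :=
  have := h.fin
  Finite.of_injective (Subgroup.inclusion h.E_le) (Subgroup.inclusion_injective h.E_le)

theorem isC_ext {x : Ω} {α β : MulAut E} (hα : IsC x α) (hβ : IsC x β) : α = β := by
  ext e
  rw [hα e, hβ e]

theorem mem_of_isC (h : Ess S E p Γ) {x : Ω} (hx : x ∈ S) {α : MulAut E} (hα : IsC x α) : α ∈ Γ :=
  h.indu (conj_mem_autInducedBy hx hα)

theorem isC_inn {x : E} : IsC (x : Ω) (MulAut.conj x) := fun _ => rfl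

theorem inn_le (h : Ess S E p Γ) : Inn E ≤ autInducedBy S E := inn_le_autInducedBy h.E_le

theorem isC_mem_E (h : Ess S E p Γ) {x : Ω} (hx : x ∈ S) {α : MulAut E} (hα : IsC x α) (hi : α ∈ Inn E) : x ∈ E := by
  refine mem_of_conj_mem_inn h.E_le (fun y hy => h.cent y hy.1 fun e he => ?_) hx hα hi
  exact (Subgroup.mem_centralizer_iff.1 hy.2 e he).symm

theorem isC_pow (h : Ess S E p Γ) {x : Ω} (hx : x ∈ S) {α : MulAut E} (hα : IsC x α) : ∃ k : ℕ, α ^ p ^ k = 1 := by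
  obtain ⟨k, hk⟩ := isPGroup_autInducedBy h.pgr E ⟨α, conj_mem_autInducedBy hx hα⟩
  exact ⟨k, by simpa only [_root_.SubmonoidClass.mk_pow, _root_.OneMemClass.coe_one] using congrArg Subtype.val hk⟩

/-- `O_p(Γ) ≤ Inn(E)` -/
theorem normal_le_inn (h : Ess S E p Γ) (R : Subgroup (MulAut E)) (hR : R ≤ Γ) (hRp : IsPGroup p R)
    (hn : ∀ g ∈ Γ, ∀ x ∈ R, g * x * g⁻¹ ∈ R) : R ≤ Inn E := by
  obtain ⟨H, hHΓ, hHne, hSH, -, hti⟩ := h.spe
  obtain ⟨g, hg, hgR⟩ := h.syl R hR hRp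
  have hRH : R ≤ H := by
    intro x hx
    have h1 := hn g⁻¹ (Γ.inv_mem hg) x hx
    have h2 := hSH (hgR _ h1)
    have e : g * (g⁻¹ * x * g⁻¹⁻¹) * g⁻¹ = x := by group
    rwa [e] at h2
  obtain ⟨γ, hγ, hγH⟩ : ∃ γ ∈ Γ, γ ∉ H := by
    by_contra hcon
    push Not at hcon
    exact hHne (le_antisymm hHΓ hcon)
  intro x hx
  refine hti γ hγ hγH x (hRH hx) (hRH (hn γ hγ x hx)) ?_
  obtain ⟨k, hk⟩ := hRp ⟨x, hx⟩
  exact ⟨k, by simpa only [_root_.SubmonoidClass.mk_pow, _root_.OneMemClass.coe_one] using congrArg Subtype.val hk⟩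

/-- an automorphism stabilizing `E ≥ M ≥ N ≥ 1` -/
def Stab (M N : Subgroup Ω) (γ : MulAut E) : Prop :=
  (∀ e : E, ((γ e : E) : Ω) * (e : Ω)⁻¹ ∈ M) ∧ (∀ e : E, (e : Ω) ∈ M → ((γ e : E) : Ω) * (e : Ω)⁻¹ ∈ N) ∧
    ∀ e : E, (e : Ω) ∈ N → γ e = e

theorem Stab.one (M N : Subgroup Ω) : Stab M N (1 : MulAut E) :=
  ⟨fun e => by simp [M.one_mem], fun e _ => by simp [N.one_mem], fun e _ => rfl⟩

theorem Stab.mul {M N : Subgroup Ω} (hNM : N ≤ M) {a b : MulAut E} (ha : Stab M N a) (hb : Stab M N b) :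
    Stab M N (a * b) := by
  have key : ∀ e : E, ((((a * b) e : E)) : Ω) * (e : Ω)⁻¹ =
      (((a (b e) : E) : Ω) * ((b e : E) : Ω)⁻¹) * (((b e : E) : Ω) * (e : Ω)⁻¹) := by
    intro e; rw [MulAut.mul_apply]; group
  refine ⟨fun e => ?_, fun e he => ?_, fun e he => ?_⟩
  · rw [key]; exact M.mul_mem (ha.1 _) (hb.1 _)
  · rw [key]
    refine N.mul_mem (ha.2.1 _ ?_) (hb.2.1 _ he)
    have := M.mul_mem (hNM (hb.2.1 e he)) he
    simpa using this
  · rw [MulAut.mul_apply, hb.2.2 e he, ha.2.2 e he]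

theorem Stab.inv {M N : Subgroup Ω} {a : MulAut E} (ha : Stab M N a) : Stab M N a⁻¹ := by
  have key : ∀ e : E, (((a⁻¹ e : E)) : Ω) * (e : Ω)⁻¹ = (((a (a⁻¹ e) : E) : Ω) * ((a⁻¹ e : E) : Ω)⁻¹)⁻¹ := by
    intro e
    have : a (a⁻¹ e) = e := a.apply_symm_apply e
    rw [this]; group
  have h1 : ∀ e : E, (((a⁻¹ e : E)) : Ω) * (e : Ω)⁻¹ ∈ M := fun e => by
    rw [key]; exact M.inv_mem (ha.1 _)
  refine ⟨h1, fun e he => ?_, fun e he => ?_⟩
  · rw [key]
    refine N.inv_mem (ha.2.1 _ ?_)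
    have := M.mul_mem (h1 e) he
    simpa only [_root_.MulAut.inv_apply, _root_.inv_mul_cancel_right] using this
  · have h2 := ha.2.2 e he
    have : a⁻¹ (a e) = e := a.symm_apply_apply e
    rw [h2] at this
    exact this

theorem Stab.pow_apply {M N : Subgroup Ω} {a : MulAut E} (ha : Stab M N a) {e : E} (he : (e : Ω) ∈ M) (k : ℕ) :
    (((a ^ k) e : E) : Ω) = (((a e : E) : Ω) * (e : Ω)⁻¹) ^ k * e := by
  induction k with
  | zero => simp
  | succ k ih =>
    have h1 : (a ^ k) e = ((a e) * e⁻¹) ^ k * e := by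
      apply Subtype.ext; rw [ih]; simp only [_root_.Subgroup.coe_mul, _root_.SubmonoidClass.coe_pow, _root_.InvMemClass.coe_inv]
    have h2 : a (a e * e⁻¹) = a e * e⁻¹ := ha.2.2 _ (by simpa only [_root_.Subgroup.coe_mul, _root_.InvMemClass.coe_inv] using ha.2.1 e he)
    rw [pow_succ', MulAut.mul_apply, h1, map_mul, map_pow, h2]
    simp only [Subgroup.coe_mul, Subgroup.coe_pow, Subgroup.coe_inv]
    rw [pow_succ]
    group

/-- if `a` is trivial on `M` and on `E / M` -/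
theorem pow_apply_of_triv {M : Subgroup Ω} {a : MulAut E} (h1 : ∀ e : E, ((a e : E) : Ω) * (e : Ω)⁻¹ ∈ M)
    (h2 : ∀ e : E, (e : Ω) ∈ M → a e = e) (e : E) (k : ℕ) :
    (((a ^ k) e : E) : Ω) = (((a e : E) : Ω) * (e : Ω)⁻¹) ^ k * e := by
  induction k with
  | zero => simp
  | succ k ih =>
    have h3 : (a ^ k) e = ((a e) * e⁻¹) ^ k * e := by
      apply Subtype.ext; rw [ih]; simp only [_root_.Subgroup.coe_mul, _root_.SubmonoidClass.coe_pow, _root_.InvMemClass.coe_inv]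
    have h4 : a (a e * e⁻¹) = a e * e⁻¹ := h2 _ (by simpa only [_root_.Subgroup.coe_mul, _root_.InvMemClass.coe_inv] using h1 e)
    rw [pow_succ', MulAut.mul_apply, h3, map_mul, map_pow, h4]
    simp only [Subgroup.coe_mul, Subgroup.coe_pow, Subgroup.coe_inv]
    rw [pow_succ]
    group

theorem exists_pow_one (h : Ess S E p Γ) {M : Subgroup Ω} (hM : M ≤ E) : ∃ k : ℕ, ∀ m ∈ M, m ^ p ^ k = 1 := by
  have := h.fin
  have : Fact p.Prime := ⟨h.pp⟩
  have hMS : M ≤ S := hM.trans h.E_le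
  have : Finite M := Finite.of_injective (Subgroup.inclusion hMS) (Subgroup.inclusion_injective hMS)
  obtain ⟨k, hk⟩ := IsPGroup.iff_card.1 (h.pgr.to_le hMS)
  refine ⟨k, fun m hm => ?_⟩
  have : (⟨m, hm⟩ : M) ^ Nat.card M = 1 := pow_card_eq_one'
  rw [hk] at this
  simpa only [_root_.SubmonoidClass.mk_pow, _root_.OneMemClass.coe_one] using congrArg Subtype.val this

theorem Stab.pgroup (h : Ess S E p Γ) {M N : Subgroup Ω} (hM : M ≤ E) (hNM : N ≤ M) {a : MulAut E}
    (ha : Stab M N a) : ∃ k : ℕ, a ^ p ^ k = 1 := by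
  obtain ⟨k, hk⟩ := exists_pow_one h (hNM.trans hM)
  obtain ⟨l, hl⟩ := exists_pow_one h hM
  have hb2 : ∀ e : E, (e : Ω) ∈ M → (a ^ p ^ k) e = e := by
    intro e he
    apply Subtype.ext
    rw [ha.pow_apply he, hk _ (ha.2.1 e he), one_mul]
  have hb : Stab M N (a ^ p ^ k) := by
    have : ∀ n : ℕ, Stab M N (a ^ n) := by
      intro n
      induction n with
      | zero => simpa using Stab.one M N
      | succ n ih => rw [pow_succ]; exact Stab.mul hNM ih ha
    exact this _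
  refine ⟨k + l, ?_⟩
  rw [pow_add, pow_mul]
  ext e
  rw [pow_apply_of_triv hb.1 hb2, hl _ (hb.1 e), one_mul]
  rfl

/-- stabilizers of chains are inner -/
theorem Stab.inn (h : Ess S E p Γ) {M N : Subgroup Ω} (hM : _root_.Cfsg.Agent.H756.PU.Inv Γ M) (hN : _root_.Cfsg.Agent.H756.PU.Inv Γ N) (hNM : N ≤ M) {a : MulAut E}
    (haΓ : a ∈ Γ) (ha : Stab M N a) : a ∈ Inn E := by
  let R : Subgroup (MulAut E) :=
    { carrier := {γ | γ ∈ Γ ∧ Stab M N γ}
      mul_mem' := fun hx hy => ⟨Γ.mul_mem hx.1 hy.1, Stab.mul hNM hx.2 hy.2⟩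
      one_mem' := ⟨Γ.one_mem, Stab.one M N⟩
      inv_mem' := fun hx => ⟨Γ.inv_mem hx.1, Stab.inv hx.2⟩ }
  refine normal_le_inn h R (fun x hx => hx.1) ?_ ?_ (show a ∈ R from ⟨haΓ, ha⟩)
  · rintro ⟨x, hx⟩
    obtain ⟨k, hk⟩ := hx.2.pgroup h hM.1 hNM
    exact ⟨k, Subtype.ext (by simpa only [_root_.SubmonoidClass.mk_pow, _root_.OneMemClass.coe_one] using hk)⟩
  · rintro g hg x ⟨hxΓ, hx⟩
    refine ⟨Γ.mul_mem (Γ.mul_mem hg hxΓ) (Γ.inv_mem hg), ?_⟩
    have key : ∀ e : E, (((g * x * g⁻¹) e : E) : Ω) * (e : Ω)⁻¹ = ((g (x (g⁻¹ e) * (g⁻¹ e)⁻¹) : E) : Ω) := by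
      intro e
      have : g (g⁻¹ e) = e := g.apply_symm_apply e
      rw [map_mul, map_inv, this]
      simp only [MulAut.mul_apply, _root_.MulAut.inv_apply, _root_.Subgroup.coe_mul, _root_.InvMemClass.coe_inv]
    refine ⟨fun e => ?_, fun e he => ?_, fun e he => ?_⟩
    · rw [key]
      exact hM.2 g hg _ (by simpa only [_root_.MulAut.inv_apply, _root_.Subgroup.coe_mul, _root_.InvMemClass.coe_inv] using hx.1 (g⁻¹ e))
    · rw [key]
      refine hN.2 g hg _ ?_
      have := hx.2.1 (g⁻¹ e) (hM.2 g⁻¹ (Γ.inv_mem hg) e he)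
      simpa only [_root_.MulAut.inv_apply, _root_.Subgroup.coe_mul, _root_.InvMemClass.coe_inv] using this
    · rw [MulAut.mul_apply, MulAut.mul_apply, hx.2.2 _ (hN.2 g⁻¹ (Γ.inv_mem hg) e he)]
      exact g.apply_symm_apply e

/-! ### the action on `M / N` -/

variable {N M : Subgroup Ω}

theorem sub_normal (h : Ess S E p Γ) (hM : _root_.Cfsg.Agent.H756.PU.Inv Γ M) (hN : _root_.Cfsg.Agent.H756.PU.Inv Γ N) : (N.subgroupOf M).Normal := by
  refine ⟨fun n hn m => ?_⟩
  rw [Subgroup.mem_subgroupOf] at hn ⊢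
  have h1 : MulAut.conj (⟨m, hM.1 m.2⟩ : E) ∈ Γ := h.indu (inn_le h ⟨_, rfl⟩)
  exact hN.2 _ h1 ⟨n, hM.1 n.2⟩ hn

/-- the action of `Γ` on `M / N` -/
def act [(N.subgroupOf M).Normal] (hM : _root_.Cfsg.Agent.H756.PU.Inv Γ M) (hN : _root_.Cfsg.Agent.H756.PU.Inv Γ N) : Γ →* MulAut (M ⧸ N.subgroupOf M) :=
  quoAct (resAct hM) (N.subgroupOf M) (fun γ _ hn => hN.2 γ.1 γ.2 _ hn)

theorem act_mk [(N.subgroupOf M).Normal] (hM : _root_.Cfsg.Agent.H756.PU.Inv Γ M) (hN : _root_.Cfsg.Agent.H756.PU.Inv Γ N) (γ : Γ) (m : M) :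
    act hM hN γ (m : M ⧸ N.subgroupOf M) = ((resAct hM γ m : M) : M ⧸ N.subgroupOf M) := rfl

theorem act_eq_iff [(N.subgroupOf M).Normal] (hM : _root_.Cfsg.Agent.H756.PU.Inv Γ M) (hN : _root_.Cfsg.Agent.H756.PU.Inv Γ N) (γ : Γ) (m : M) :
    act hM hN γ (m : M ⧸ N.subgroupOf M) = (m : M ⧸ N.subgroupOf M) ↔
      ((γ.1 ⟨m, hM.1 m.2⟩ : E) : Ω) * (m : Ω)⁻¹ ∈ N := by
  rw [act_mk, QuotientGroup.eq_iff_div_mem, Subgroup.mem_subgroupOf]
  rw [Subgroup.coe_div, resAct_apply, div_eq_mul_inv]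

theorem act_eq_one_iff [(N.subgroupOf M).Normal] (hM : _root_.Cfsg.Agent.H756.PU.Inv Γ M) (hN : _root_.Cfsg.Agent.H756.PU.Inv Γ N) (γ : Γ) :
    act hM hN γ = 1 ↔ ∀ e : E, (e : Ω) ∈ M → ((γ.1 e : E) : Ω) * (e : Ω)⁻¹ ∈ N := by
  constructor
  · intro h1 e he
    have := (act_eq_iff hM hN γ ⟨e, he⟩).1 (by rw [h1]; rfl)
    exact this
  · intro h1
    ext v
    induction v using QuotientGroup.induction_on with
    | _ m => exact (act_eq_iff hM hN γ m).2 (h1 _ m.2)

theorem act_inn [(N.subgroupOf M).Normal] (hM : _root_.Cfsg.Agent.H756.PU.Inv Γ M) (hN : _root_.Cfsg.Agent.H756.PU.Inv Γ N) (hEM : Com E M N) (γ : Γ)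
    (hγ : γ.1 ∈ Inn E) : act hM hN γ = 1 := by
  rw [act_eq_one_iff]
  intro e he
  obtain ⟨x, hx⟩ := hγ
  rw [← hx]
  exact hEM x x.2 e he

/-- conjugation by elements of `N_S(E)` -/
noncomputable def cj (h : Ess S E p Γ) : ↥(normalizerIn S E) →* ↥Γ where
  toFun g := ⟨(exists_conjAut g.2.2).choose, mem_of_isC h g.2.1 (exists_conjAut g.2.2).choose_spec⟩
  map_one' := Subtype.ext (isC_ext (x := 1) (exists_conjAut (1 : ↥(normalizerIn S E)).2.2).choose_spec
    (fun e => by simp))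
  map_mul' a b := Subtype.ext (isC_ext (x := (a * b : Ω)) (exists_conjAut (a * b).2.2).choose_spec (fun e => by
    show (((exists_conjAut a.2.2).choose ((exists_conjAut b.2.2).choose e) : E) : Ω) = _
    rw [(exists_conjAut a.2.2).choose_spec, (exists_conjAut b.2.2).choose_spec]
    group))

theorem cj_isC (h : Ess S E p Γ) (g : ↥(normalizerIn S E)) : IsC (g : Ω) (cj h g).1 :=
  (exists_conjAut g.2.2).choose_spec

theorem cj_mem (h : Ess S E p Γ) (g : ↥(normalizerIn S E)) : (cj h g).1 ∈ autInducedBy S E :=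
  conj_mem_autInducedBy g.2.1 (cj_isC h g)

theorem exists_cj (h : Ess S E p Γ) {α : MulAut E} (hα : α ∈ autInducedBy S E) :
    ∃ g : ↥(normalizerIn S E), (cj h g).1 = α := by
  obtain ⟨g, hg, hc⟩ := (mem_autInducedBy_iff S E α).1 hα
  exact ⟨⟨g, hg, mem_normalizer_of_aut hc⟩, isC_ext (cj_isC h _) hc⟩

/-- the kernel of the action on `M / N` lies in the strongly embedded subgroup -/
theorem ker_le [(N.subgroupOf M).Normal] (h : Ess S E p Γ) (hM : _root_.Cfsg.Agent.H756.PU.Inv Γ M) (hN : _root_.Cfsg.Agent.H756.PU.Inv Γ N) (hNM : N ≤ M)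
    {A : Subgroup Ω} (hA : A ≤ normalizerIn S E) (hAE : ¬ A ≤ E) (hAM : Com A E M)
    (hAN : ∀ x ∈ A, ∀ m ∈ N, x * m = m * x) {H : Subgroup (MulAut E)} (hSH : autInducedBy S E ≤ H)
    (hti : ∀ g ∈ Γ, g ∉ H → ∀ x ∈ H, g * x * g⁻¹ ∈ H → (∃ k : ℕ, x ^ p ^ k = 1) → x ∈ Inn E)
    (γ : Γ) (hγ : act hM hN γ = 1) : γ.1 ∈ H := by
  rw [act_eq_one_iff] at hγ
  obtain ⟨a, haA, haE⟩ := Set.not_subset.1 hAE
  obtain ⟨α, hα⟩ := exists_conjAut (hA haA).2
  have hαΓ : α ∈ Γ := mem_of_isC h (hA haA).1 hα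
  have hαS : α ∈ autInducedBy S E := conj_mem_autInducedBy (hA haA).1 hα
  by_contra hγH
  -- the commutator stabilizes the chain
  have hst : Stab M N (γ.1 * α * γ.1⁻¹ * α⁻¹) := by
    have h1 : ∀ e : E, γ.1 (γ.1⁻¹ e) = e := fun e => γ.1.apply_symm_apply e
    have h2 : ∀ e : E, α (α⁻¹ e) = e := fun e => α.apply_symm_apply e
    have h1' : ∀ e : E, γ.1⁻¹ (γ.1 e) = e := fun e => γ.1.symm_apply_apply e
    have hγi : (γ.1)⁻¹ ∈ Γ := Γ.inv_mem γ.2
    have hαi : α⁻¹ ∈ Γ := Γ.inv_mem hαΓ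
    have hαst : ∀ e : E, ((α e : E) : Ω) * (e : Ω)⁻¹ ∈ M := fun e => by
      rw [hα e]; exact hAM a haA e e.2
    have hαN : ∀ e : E, (e : Ω) ∈ N → α e = e := fun e he => by
      apply Subtype.ext
      rw [hα e, hAN a haA e he]; group
    refine ⟨fun e => ?_, fun e he => ?_, fun e he => ?_⟩
    · -- trivial on E / M
      set f : E := α⁻¹ e with hf
      have hef : e = α f := (h2 e).symm
      have k1 : ((γ.1 (α (γ.1⁻¹ f) * (γ.1⁻¹ f)⁻¹) : E) : Ω) ∈ M :=
        hM.2 _ γ.2 _ (by simpa only [_root_.MulAut.inv_apply, _root_.Subgroup.coe_mul, _root_.InvMemClass.coe_inv] using hαst (γ.1⁻¹ f))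
      have k2 : ((((γ.1 * α * γ.1⁻¹ * α⁻¹) e : E)) : Ω) * (e : Ω)⁻¹ =
          ((γ.1 (α (γ.1⁻¹ f) * (γ.1⁻¹ f)⁻¹) : E) : Ω) * (((α f : E) : Ω) * (f : Ω)⁻¹)⁻¹ := by
        rw [map_mul, map_inv, h1]
        simp only [MulAut.mul_apply, ← hf, Subgroup.coe_mul, Subgroup.coe_inv]
        rw [hef]; group
      rw [k2]
      exact M.mul_mem k1 (M.inv_mem (hαst f))
    · -- trivial on M / N
      have hmul : act hM hN ⟨γ.1 * α * γ.1⁻¹ * α⁻¹, Γ.mul_mem (Γ.mul_mem (Γ.mul_mem γ.2 hαΓ) hγi) hαi⟩ = 1 := by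
        have e1 : (⟨γ.1 * α * γ.1⁻¹ * α⁻¹, Γ.mul_mem (Γ.mul_mem (Γ.mul_mem γ.2 hαΓ) hγi) hαi⟩ : Γ) =
            γ * ⟨α, hαΓ⟩ * γ⁻¹ * (⟨α, hαΓ⟩ : Γ)⁻¹ := rfl
        have e2 : act hM hN γ = 1 := (act_eq_one_iff hM hN γ).2 hγ
        simp only [e1, map_mul, map_mul, map_mul, map_inv, map_inv, e2]
        group
      exact (act_eq_one_iff hM hN _).1 hmul e he
    · -- trivial on N
      have k1 : α⁻¹ e = e := by
        have := hαN e he
        have k := α.symm_apply_apply e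
        rw [this] at k
        exact k
      have k2 : α (γ.1⁻¹ e) = γ.1⁻¹ e := hαN _ (hN.2 _ hγi e he)
      simp only [MulAut.mul_apply]
      rw [k1, k2, h1]
  have hc : γ.1 * α * γ.1⁻¹ * α⁻¹ ∈ Inn E :=
    hst.inn h hM hN hNM (Γ.mul_mem (Γ.mul_mem (Γ.mul_mem γ.2 hαΓ) (Γ.inv_mem γ.2)) (Γ.inv_mem hαΓ))
  have hcH : γ.1 * α * γ.1⁻¹ ∈ H := by
    have := H.mul_mem (hSH (inn_le h hc)) (hSH hαS)
    simpa only [_root_.inv_mul_cancel_right] using this
  have hαi := hti γ.1 γ.2 hγH α (hSH hαS) hcH (isC_pow h (hA haA).1 hα)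
  exact haE (isC_mem_E h (hA haA).1 hα hαi)

/-- `p`-elements of the kernel are inner -/
theorem ker_p [(N.subgroupOf M).Normal] (h : Ess S E p Γ) (hM : _root_.Cfsg.Agent.H756.PU.Inv Γ M) (hN : _root_.Cfsg.Agent.H756.PU.Inv Γ N) (hNM : N ≤ M)
    {A : Subgroup Ω} (hA : A ≤ normalizerIn S E) (hAE : ¬ A ≤ E) (hAM : Com A E M)
    (hAN : ∀ x ∈ A, ∀ m ∈ N, x * m = m * x) (γ : Γ) (hγ : act hM hN γ = 1)
    (hp : ∃ k : ℕ, γ.1 ^ p ^ k = 1) : γ.1 ∈ Inn E := by
  obtain ⟨H, hHΓ, hHne, hSH, -, hti⟩ := h.spe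
  obtain ⟨g, hg, hgH⟩ : ∃ g ∈ Γ, g ∉ H := by
    by_contra hcon
    push Not at hcon
    exact hHne (le_antisymm hHΓ hcon)
  refine hti g hg hgH γ.1 (ker_le h hM hN hNM hA hAE hAM hAN hSH hti γ hγ) ?_ hp
  have h1 : act hM hN (⟨g, hg⟩ * γ * (⟨g, hg⟩ : Γ)⁻¹) = 1 := by
    simp only [map_mul, map_mul, map_inv, hγ]; group
  exact ker_le h hM hN hNM hA hAE hAM hAN hSH hti _ h1

end

end Cfsg.Agent.H52.PU
end

-- part: H52/PU/FFMain
section
/-!
# S5258 (G2): the failure-of-factorization lemma (helper52), assembly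
-/

set_option autoImplicit false

namespace Cfsg.Agent.H52.PU

open Cfsg Cfsg.FusionSystem Cfsg.Agent.H756.PU Cfsg.Agent.H802

universe u

/-- the abstract statement (helper302) -/
def FFAbs : Prop :=
  ∀ {V K : Type u} [Group V] [Finite V] [Group K] [Finite K] {p : ℕ} [Fact p.Prime] (_ : ∀ a b : V, a * b = b * a)
    (_ : ∀ v : V, v ^ p = 1) (φ : K →* MulAut V) (_ : Function.Injective φ) (X : Subgroup K)
    (_ : IsStronglyPEmbedded p X) (T : Sylow p K)
    (_ : ∀ W : Subgroup V, (∀ g : K, ∀ w ∈ W, φ g w ∈ W) →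
      (∀ v : V, (∀ t ∈ (T : Subgroup K), φ t v = v) → v ∈ W) → W = ⊤)
    (A : Subgroup K) (_ : A ≤ (T : Subgroup K)) (_ : A ≠ ⊥) (_ : ∀ a ∈ A, ∀ b ∈ A, a * b = b * a)
    (_ : ∀ a ∈ A, a ^ p = 1) (C : Subgroup V) (_ : ∀ v : V, v ∈ C ↔ ∀ a ∈ A, φ a v = v)
    (_ : Nat.card V ≤ Nat.card A * Nat.card C),
    A = (T : Subgroup K) ∧ Nat.card V = Nat.card A * Nat.card C ∧
      ∀ D : Subgroup V, (∀ g : K, ∀ d ∈ D, φ g d ∈ D) → (∀ a ∈ A, ∀ d ∈ D, φ a d = d) →
        ∀ B : Subgroup V, (∀ a ∈ A, ∀ v : V, φ a v * v⁻¹ ∈ B) → Nat.card A * Nat.card ↥(B ⊓ D) ≤ Nat.card B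

section

variable {Ω : Type u} [Group Ω] {S E : Subgroup Ω} {p : ℕ} {Γ : Subgroup (MulAut E)}

/-- `Aut_S(E)` as a Sylow subgroup of `Γ` -/
theorem exists_sylow (h : Ess S E p Γ) :
    haveI : Fact p.Prime := ⟨h.pp⟩
    ∃ T : Sylow p Γ, (T : Subgroup Γ) = (autInducedBy S E).subgroupOf Γ := by
  have := finE h
  have hfp : Fact p.Prime := ⟨h.pp⟩
  have hG : IsPGroup p ↥((autInducedBy S E).subgroupOf Γ) :=
    (isPGroup_autInducedBy h.pgr E).comap_of_injective Γ.subtype Γ.subtype_injective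
  refine ⟨⟨(autInducedBy S E).subgroupOf Γ, hG, fun {Q} hQ hle => ?_⟩, rfl⟩
  refine (Subgroup.eq_of_le_of_card_ge hle ?_).symm
  obtain ⟨g, hg, hgQ⟩ := h.syl (Q.map Γ.subtype) (Subgroup.map_subtype_le Q) (hQ.map _)
  have hmap : (Q.map Γ.subtype).map (MulAut.conj g).toMonoidHom ≤ autInducedBy S E := by
    rintro _ ⟨x, hx, rfl⟩
    exact hgQ x hx
  have h1 := Subgroup.card_le_of_le hmap
  rw [Subgroup.card_map_of_injective (MulAut.conj g).injective,
    Subgroup.card_map_of_injective Γ.subtype_injective] at h1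
  refine h1.trans (le_of_eq ?_)
  have := Subgroup.card_map_of_injective (K := (autInducedBy S E).subgroupOf Γ) (f := Γ.subtype)
    Γ.subtype_injective
  rw [← this, Subgroup.subgroupOf_map_subtype, inf_eq_left.2 h.indu]

variable {N M : Subgroup Ω}

/-- the strongly embedded subgroup of the image -/
theorem exists_strong [(N.subgroupOf M).Normal] (h : Ess S E p Γ) (hM : _root_.Cfsg.Agent.H756.PU.Inv Γ M) (hN : _root_.Cfsg.Agent.H756.PU.Inv Γ N) (hNM : N ≤ M)
    (hEM : Com E M N)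
    {A : Subgroup Ω} (hA : A ≤ normalizerIn S E) (hAE : ¬ A ≤ E) (hAM : Com A E M)
    (hAN : ∀ x ∈ A, ∀ m ∈ N, x * m = m * x) : ∃ Y : Subgroup (act hM hN).range, IsStronglyPEmbedded p Y := by
  classical
  have := finE h
  have hfp : Fact p.Prime := ⟨h.pp⟩
  obtain ⟨H, hHΓ, hHne, hSH, hSi, hti⟩ := h.spe
  have hker := ker_le h hM hN hNM hA hAE hAM hAN hSH hti
  set f : Γ →* (act hM hN).range := (act hM hN).rangeRestrict with hf
  have hfs : Function.Surjective f := MonoidHom.rangeRestrict_surjective _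
  have hfin : Finite (act hM hN).range := Finite.of_surjective f hfs
  have hf1 : ∀ γ : Γ, f γ = 1 → act hM hN γ = 1 := fun γ hγ => by
    have := congrArg Subtype.val hγ
    exact this
  have hf1' : ∀ γ : Γ, act hM hN γ = 1 → f γ = 1 := fun γ hγ => Subtype.ext hγ
  let Y : Subgroup (act hM hN).range := (H.subgroupOf Γ).map f
  have hmemY : ∀ γ : Γ, f γ ∈ Y ↔ γ.1 ∈ H := by
    intro γ
    constructor
    · rintro ⟨x, hx, hxγ⟩
      have h1 : f (x⁻¹ * γ) = 1 := by simp only [map_mul, map_inv, hxγ]; group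
      have h2 := hker _ (hf1 _ h1)
      have h3 := H.mul_mem (show x.1 ∈ H from hx) h2
      have e : x.1 * (x⁻¹ * γ).1 = γ.1 := by simp only [_root_.Subgroup.coe_mul, _root_.InvMemClass.coe_inv, _root_.mul_inv_cancel_left]
      rwa [e] at h3
    · intro hγ
      exact ⟨γ, hγ, rfl⟩
  refine ⟨Y, EvenType.StrongP.of_inter ?_ ?_ ?_⟩
  · -- a nontrivial p-element
    obtain ⟨a, haA, haE⟩ := Set.not_subset.1 hAE
    obtain ⟨α, hα⟩ := exists_conjAut (hA haA).2
    have hαΓ : α ∈ Γ := mem_of_isC h (hA haA).1 hα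
    obtain ⟨k, hk⟩ := isC_pow h (hA haA).1 hα
    have hαY : f ⟨α, hαΓ⟩ ∈ Y := (hmemY _).2 (hSH (conj_mem_autInducedBy (hA haA).1 hα))
    have hne : f ⟨α, hαΓ⟩ ≠ 1 := by
      intro h1
      have h2 := ker_p h hM hN hNM hA hAE hAM hAN ⟨α, hαΓ⟩ (hf1 _ h1) ⟨k, hk⟩
      exact haE (isC_mem_E h (hA haA).1 hα h2)
    have h3 : (f ⟨α, hαΓ⟩) ^ p ^ k = 1 := by
      rw [← map_pow]
      have : (⟨α, hαΓ⟩ : Γ) ^ p ^ k = 1 := Subtype.ext (by simpa only [_root_.SubmonoidClass.mk_pow, _root_.OneMemClass.coe_one] using hk)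
      simp only [this, map_one]
    set y : ↥Y := ⟨f ⟨α, hαΓ⟩, hαY⟩ with hy
    have hy1 : y ≠ 1 := fun h4 => hne (by simpa only [hy, _root_.OneMemClass.coe_one] using congrArg Subtype.val h4)
    have hyk : y ^ p ^ k = 1 := Subtype.ext (by simpa only [hy, _root_.SubmonoidClass.mk_pow, _root_.OneMemClass.coe_one] using h3)
    obtain ⟨j, -, hj⟩ := (Nat.dvd_prime_pow h.pp).1 (orderOf_dvd_of_pow_eq_one hyk)
    have hj0 : j ≠ 0 := by
      rintro rfl
      simp only [pow_zero, orderOf_eq_one_iff] at hj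
      exact hy1 hj
    have : p ∣ orderOf y := by rw [hj]; exact dvd_pow_self p hj0
    exact this.trans (orderOf_dvd_natCard y)
  · intro htop
    apply hHne
    refine le_antisymm hHΓ fun γ hγ => ?_
    have : f ⟨γ, hγ⟩ ∈ Y := by rw [htop]; trivial
    exact (hmemY ⟨γ, hγ⟩).1 this
  · intro g hg hdvd
    obtain ⟨⟨y, hyY, hyg⟩, hy⟩ := exists_prime_orderOf_dvd_card' (G := ↥(Y ⊓ Y.map (MulAut.conj g).toMonoidHom)) p hdvd
    have hyo : orderOf y = p := by rw [← hy]; exact (Subgroup.orderOf_mk _ _).symm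
    have hyp : y ^ p = 1 := by rw [← hyo]; exact pow_orderOf_eq_one y
    obtain ⟨γ, rfl⟩ := hfs g
    obtain ⟨x, hxH, hxy⟩ := hyY
    obtain ⟨n, hn1, k, hk⟩ := exists_p_lift f x (by rw [hxy]; exact hyp)
    have hxn : (x ^ n).1 ∈ H := by
      have := H.pow_mem (show x.1 ∈ H from hxH) n
      simpa using this
    have hyg' := EvenType.StrongP.mem_map_conj.1 hyg
    simp only [← hxy, ← hn1, ← map_inv, ← map_mul, ← map_mul, hmemY] at hyg'
    have hγH : γ.1⁻¹ ∉ H := fun h1 => hg ((hmemY γ).2 (by simpa using H.inv_mem h1))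
    have hin := hti γ.1⁻¹ (Γ.inv_mem γ.2) hγH (x ^ n).1 hxn (by simpa only [_root_.SubmonoidClass.coe_pow, _root_.inv_inv, _root_.Subgroup.coe_mul, _root_.InvMemClass.coe_inv] using hyg')
      ⟨k, by simpa using congrArg Subtype.val hk⟩
    have h5 : y = 1 := by
      rw [← hxy, ← hn1]
      exact hf1' _ (act_inn hM hN hEM _ hin)
    rw [h5, orderOf_one] at hyo
    exact h.pp.one_lt.ne hyo

end

theorem ff_of (hab : FFAbs.{u}) : StFF.{u} := by
  intro Ω _ S E p Γ h N M X A hN hM hNM hXM hEM hMp hgen hXS hA hAE hAA hAp hAM hAN hcard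
  classical
  have hfp : Fact p.Prime := ⟨h.pp⟩
  have hfE := finE h
  have hfM : Finite M := Finite.of_injective (Subgroup.inclusion hM.1) (Subgroup.inclusion_injective hM.1)
  have hnorm := sub_normal h hM hN
  set φ : Γ →* MulAut (M ⧸ N.subgroupOf M) := act hM hN with hφ
  obtain ⟨Y, hY⟩ : ∃ Y : Subgroup φ.range, IsStronglyPEmbedded p Y := exists_strong h hM hN hNM hEM hA hAE hAM hAN
  set f : Γ →* φ.range := φ.rangeRestrict with hf
  have hfs : Function.Surjective f := MonoidHom.rangeRestrict_surjective _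
  have hfin : Finite φ.range := Finite.of_surjective f hfs
  obtain ⟨T, hT⟩ := exists_sylow h
  let T' : Sylow p φ.range := T.mapSurjective hfs
  let ψ : ↥(normalizerIn S E) →* φ.range := f.comp (cj h)
  have hψ : ∀ (n : ↥(normalizerIn S E)) (m : M), (ψ n).1 (m : M ⧸ N.subgroupOf M) = (m : M ⧸ N.subgroupOf M) ↔
      (n : Ω) * m * (n : Ω)⁻¹ * (m : Ω)⁻¹ ∈ N := by
    intro n m
    have := act_eq_iff hM hN (cj h n) m
    rw [cj_isC h n] at this
    exact this
  have hψker : ∀ n : ↥(normalizerIn S E), ψ n = 1 ↔ (n : Ω) ∈ E := by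
    intro n
    constructor
    · intro h1
      have h2 : act hM hN (cj h n) = 1 := congrArg Subtype.val h1
      exact isC_mem_E h n.2.1 (cj_isC h n) (ker_p h hM hN hNM hA hAE hAM hAN (cj h n) h2
        (isC_pow h n.2.1 (cj_isC h n)))
    · intro h1
      refine Subtype.ext (act_inn hM hN hEM (cj h n) ⟨⟨n, h1⟩, ?_⟩)
      exact isC_ext (isC_inn (x := ⟨(n : Ω), h1⟩)) (cj_isC h n)
  have hT' : ∀ y : φ.range, y ∈ (T' : Subgroup φ.range) ↔ ∃ n, ψ n = y := by
    intro y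
    constructor
    · rintro ⟨t, ht, rfl⟩
      have ht' : t ∈ (T : Subgroup Γ) := ht
      rw [hT] at ht'
      obtain ⟨n, hn⟩ := exists_cj h (Subgroup.mem_subgroupOf.1 ht')
      exact ⟨n, congrArg f (Subtype.ext hn)⟩
    · rintro ⟨n, rfl⟩
      refine ⟨cj h n, ?_, rfl⟩
      show cj h n ∈ (T : Subgroup Γ)
      rw [hT]
      exact Subgroup.mem_subgroupOf.2 (cj_mem h n)
  let g : A →* φ.range := ψ.comp (Subgroup.inclusion hA)
  have hgker : g.ker = E.subgroupOf A := by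
    ext a
    simp only [MonoidHom.mem_ker, Subgroup.mem_subgroupOf]
    exact hψker _
  have hgcard : Nat.card g.range = E.relIndex A := by
    rw [← Subgroup.index_ker, hgker]; rfl
  -- commutativity of V
  have hVc : ∀ a b : M ⧸ N.subgroupOf M, a * b = b * a := by
    intro a b
    induction a using QuotientGroup.induction_on with
    | _ a =>
      induction b using QuotientGroup.induction_on with
      | _ b =>
        rw [← QuotientGroup.mk_mul, ← QuotientGroup.mk_mul, QuotientGroup.eq_iff_div_mem, Subgroup.mem_subgroupOf]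
        have := hEM a (hM.1 a.2) b b.2
        simpa only [div_eq_mul_inv, mul_assoc, _root_.mul_inv_rev, _root_.Subgroup.coe_mul, _root_.InvMemClass.coe_inv] using this
  have hVp : ∀ v : M ⧸ N.subgroupOf M, v ^ p = 1 := by
    intro a
    induction a using QuotientGroup.induction_on with
    | _ a =>
      rw [← QuotientGroup.mk_pow, QuotientGroup.eq_one_iff, Subgroup.mem_subgroupOf]
      simpa using hMp a a.2
  -- generation
  have hgen' : ∀ W : Subgroup (M ⧸ N.subgroupOf M), (∀ k : φ.range, ∀ w ∈ W, φ.range.subtype k w ∈ W) →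
      (∀ v, (∀ t ∈ (T' : Subgroup φ.range), φ.range.subtype t v = v) → v ∈ W) → W = ⊤ := by
    intro W hW hWC
    have hle : M ≤ (W.comap (QuotientGroup.mk' (N.subgroupOf M))).map M.subtype := by
      conv_lhs => rw [hgen]
      refine sup_le ?_ ?_
      · refine (Subgroup.closure_le _).2 ?_
        rintro _ ⟨γ, hγ, e, he, rfl⟩
        refine ⟨⟨((γ e : E) : Ω), hM.2 γ hγ e (hXM he)⟩, ?_, rfl⟩
        have h1 : ((⟨(e : Ω), hXM he⟩ : M) : M ⧸ N.subgroupOf M) ∈ W := by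
          refine hWC _ fun t ht => ?_
          obtain ⟨n, rfl⟩ := (hT' t).1 ht
          exact (hψ n _).2 (hXS n n.2 e he)
        exact hW (f ⟨γ, hγ⟩) _ h1
      · intro n hn
        refine ⟨⟨n, hNM hn⟩, ?_, rfl⟩
        have : ((⟨n, hNM hn⟩ : M) : M ⧸ N.subgroupOf M) = 1 := (QuotientGroup.eq_one_iff _).2 hn
        show ((⟨n, hNM hn⟩ : M) : M ⧸ N.subgroupOf M) ∈ W
        rw [this]; exact W.one_mem
    rw [eq_top_iff]
    intro v _
    induction v using QuotientGroup.induction_on with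
    | _ m =>
      obtain ⟨m', hm', hmm⟩ := hle m.2
      have : m' = m := Subtype.ext hmm
      rw [← this]; exact hm'
  -- the offender
  have hA'T : g.range ≤ (T' : Subgroup φ.range) := by
    rintro _ ⟨a, rfl⟩
    exact (hT' _).2 ⟨_, rfl⟩
  have hA'1 : g.range ≠ ⊥ := by
    intro h1
    apply hAE
    intro a ha
    have h2 : g ⟨a, ha⟩ ∈ g.range := ⟨_, rfl⟩
    rw [h1, Subgroup.mem_bot] at h2
    exact (hψker _).1 h2
  have hA'c : ∀ a ∈ g.range, ∀ b ∈ g.range, a * b = b * a := by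
    rintro _ ⟨a, rfl⟩ _ ⟨b, rfl⟩
    have h1 : g (a * b * a⁻¹ * b⁻¹) = 1 := (hψker _).2 (hAA a a.2 b b.2)
    simp only [map_mul, map_mul, map_mul, map_inv, map_inv] at h1
    exact (mul_inv_eq_one.1 (by simp only [← h1]; group))
  have hA'p : ∀ a ∈ g.range, a ^ p = 1 := by
    rintro _ ⟨a, rfl⟩
    rw [← map_pow]
    exact (hψker _).2 (by simpa only [_root_.map_pow, _root_.SubmonoidClass.coe_pow, _root_.Subgroup.coe_inclusion] using hAp a a.2)
  let C : Subgroup (M ⧸ N.subgroupOf M) :=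
    { carrier := {v | ∀ a ∈ g.range, φ.range.subtype a v = v}
      mul_mem' := fun {x y} hx hy a ha => by rw [map_mul, hx a ha, hy a ha]
      one_mem' := fun a _ => map_one _
      inv_mem' := fun {x} hx a ha => by rw [map_inv, hx a ha] }
  have hC : ∀ v, v ∈ C ↔ ∀ a ∈ g.range, φ.range.subtype a v = v := fun v => Iff.rfl
  have hCm : ∀ m : M, (m : M ⧸ N.subgroupOf M) ∈ C ↔ ∀ a ∈ A, a * m * a⁻¹ * (m : Ω)⁻¹ ∈ N := by
    intro m
    rw [hC]
    constructor
    · intro h1 a ha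
      exact (hψ _ m).1 (h1 (g ⟨a, ha⟩) ⟨_, rfl⟩)
    · rintro h1 _ ⟨a, rfl⟩
      exact (hψ _ m).2 (h1 a a.2)
  have hcm : ∀ x : Ω, x ∈ cmod A M N ↔ x ∈ M ∧ ∀ a ∈ A, a * x * a⁻¹ * x⁻¹ ∈ N := by
    intro x
    refine ⟨fun hx => ?_, fun hx => Subgroup.subset_closure hx⟩
    have hle : cmod A M N ≤ (C.comap (QuotientGroup.mk' (N.subgroupOf M))).map M.subtype := by
      refine (Subgroup.closure_le _).2 ?_
      rintro m ⟨hm, hm'⟩
      exact ⟨⟨m, hm⟩, (hCm ⟨m, hm⟩).2 hm', rfl⟩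
    obtain ⟨m, hm, rfl⟩ := hle hx
    exact ⟨m.2, (hCm m).1 hm⟩
  have hcomap : C.comap (QuotientGroup.mk' (N.subgroupOf M)) = (cmod A M N).subgroupOf M := by
    ext m
    rw [Subgroup.mem_comap, Subgroup.mem_subgroupOf, hcm]
    exact (hCm m).trans ⟨fun h1 => ⟨m.2, h1⟩, fun h1 => h1.2⟩
  have hidx : (cmod A M N).relIndex M = C.index := by
    rw [Subgroup.relIndex, ← hcomap, Subgroup.index_comap_of_surjective _ (QuotientGroup.mk'_surjective _)]
  have hV : Nat.card C * C.index = Nat.card (M ⧸ N.subgroupOf M) := Subgroup.card_mul_index C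
  obtain ⟨r1, r2, r3⟩ := hab hVc hVp φ.range.subtype Subtype.val_injective Y hY T' hgen' g.range hA'T hA'1 hA'c hA'p C
    hC (by
      rw [← hV, hgcard, ← hidx, mul_comm]
      exact Nat.mul_le_mul_right _ hcard)
  refine ⟨?_, ?_, ?_⟩
  · refine le_antisymm (fun n hn => ?_) (sup_le (le_inf h.E_le Subgroup.le_normalizer) hA)
    have h1 : ψ ⟨n, hn⟩ ∈ g.range := by rw [r1]; exact (hT' _).2 ⟨_, rfl⟩
    obtain ⟨a, ha⟩ := h1
    have h2 : ψ ((Subgroup.inclusion hA a)⁻¹ * ⟨n, hn⟩) = 1 := by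
      simp only [map_mul, map_inv]
      have ha' : ψ (Subgroup.inclusion hA a) = ψ ⟨n, hn⟩ := ha
      simp only [ha']; group
    have h3 : (a : Ω)⁻¹ * n ∈ E := (hψker _).1 h2
    have e : n = a * ((a : Ω)⁻¹ * n) := by group
    rw [e]
    exact Subgroup.mul_mem _ (Subgroup.mem_sup_right a.2) (Subgroup.mem_sup_left h3)
  · rw [hidx, ← hgcard]
    have hCpos : 0 < Nat.card C := Nat.card_pos
    apply Nat.eq_of_mul_eq_mul_left hCpos
    (simp only [hV]; simp only [r2]; (conv => enter [@2]; rw [mul_comm]))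
  · intro D hD hND hDM hAD
    set f' := QuotientGroup.mk' (N.subgroupOf M) with hf'
    set Kt : Subgroup Ω := comG A M ⊔ N with hKt
    have hKM : Kt ≤ M := by
      refine sup_le ((Subgroup.closure_le _).2 ?_) hNM
      rintro _ ⟨a, ha, m, hm, rfl⟩
      have h1 : a * m * a⁻¹ ∈ M := by
        have := hM.2 (cj h ⟨a, hA ha⟩).1 (cj h ⟨a, hA ha⟩).2 ⟨m, hM.1 hm⟩ hm
        rw [cj_isC h ⟨a, hA ha⟩] at this
        exact this
      exact M.mul_mem h1 (M.inv_mem hm)
    have h3 := r3 ((D.subgroupOf M).map f') ?_ ?_ ((Kt.subgroupOf M).map f') ?_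
    · rw [← hgcard]
      have hDc : D.subgroupOf M = ((D.subgroupOf M).map f').comap f' := by
        rw [Subgroup.comap_map_eq, QuotientGroup.ker_mk']
        exact (sup_eq_left.2 (Subgroup.comap_mono hND)).symm
      have e1 : D.relIndex Kt = ((D.subgroupOf M).map f').relIndex ((Kt.subgroupOf M).map f') := by
        rw [← Subgroup.relIndex_comap, ← hDc, Subgroup.relIndex_subgroupOf hKM]
      rw [e1]
      have e2 := Subgroup.card_mul_index (((D.subgroupOf M).map f').subgroupOf ((Kt.subgroupOf M).map f'))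
      have e3 : Nat.card (((D.subgroupOf M).map f').subgroupOf ((Kt.subgroupOf M).map f')) =
          Nat.card ↥((Kt.subgroupOf M).map f' ⊓ (D.subgroupOf M).map f') := by
        rw [← Subgroup.card_map_of_injective (Subgroup.subtype_injective _), Subgroup.subgroupOf_map_subtype, inf_comm]
      rw [e3] at e2
      have hpos : 0 < Nat.card ↥((Kt.subgroupOf M).map f' ⊓ (D.subgroupOf M).map f') := Nat.card_pos
      rw [← e2, mul_comm] at h3
      exact Nat.le_of_mul_le_mul_left h3 hpos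
    · rintro k _ ⟨d, hd, rfl⟩
      obtain ⟨γ, rfl⟩ := hfs k
      exact ⟨resAct hM γ d, hD.2 γ.1 γ.2 _ hd, rfl⟩
    · rintro _ ⟨a, rfl⟩ _ ⟨d, hd, rfl⟩
      exact (hψ _ d).2 (hAD a a.2 d hd)
    · rintro _ ⟨a, rfl⟩ v
      induction v using QuotientGroup.induction_on with
      | _ m =>
        refine ⟨resAct hM (cj h (Subgroup.inclusion hA a)) m * m⁻¹, ?_, rfl⟩
        rw [SetLike.mem_coe, Subgroup.mem_subgroupOf]
        refine Subgroup.mem_sup_left (Subgroup.subset_closure ⟨a, a.2, m, m.2, ?_⟩)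
        rw [Subgroup.coe_mul, resAct_apply, cj_isC h]
        rfl

end Cfsg.Agent.H52.PU
end

-- part: H302/PU/FFAbs
section
/-!
# The abstract part of the failure-of-factorization lemma (StFF of the plan for S5258)

`K` acts faithfully on the elementary abelian `p`-group `V`, `K` has a strongly `p`-embedded subgroup, `V` is generated by the
conjugates of `C_V(T)`, and `A ≤ T` is an offender. Then `A = T`, `|V : C_V(A)| = |A|`, and `|[V, A] D : D| ≥ |A|` for invariant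
`D ≤ C_V(A)`.
-/

set_option autoImplicit false

namespace Cfsg.Agent.H302.PU

open Cfsg
open scoped commutatorElement

/-- transport of strongly `p`-embedded subgroups along an isomorphism -/
theorem strong_map {H H' : Type*} [Group H] [Finite H] [Group H'] [Finite H'] {p : ℕ} [Fact p.Prime] (e : H ≃* H')
    {X : Subgroup H} (hX : IsStronglyPEmbedded p X) : IsStronglyPEmbedded p (X.map e.toMonoidHom) := by
  apply EvenType.StrongP.of_normIn
  · have h1 := EvenType.StrongP.dvd_card hX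
    rwa [Nat.card_congr (Subgroup.equivMapOfInjective X e.toMonoidHom e.injective).toEquiv] at h1
  · intro h
    apply hX.2.1
    rw [eq_top_iff]
    intro x _
    have h1 : e x ∈ X.map e.toMonoidHom := by rw [h]; trivial
    obtain ⟨y, hy, hyx⟩ := h1
    rwa [← e.injective hyx]
  · intro Q hQ hQX hQ1
    have h2 := EvenType.StrongP.normIn hX (Q.comap e.toMonoidHom) (hQ.comap_of_injective _ e.injective)
      (by
        intro x hx
        obtain ⟨y, hy, hyx⟩ := hQX hx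
        rwa [← e.injective hyx])
      (by
        intro h0
        apply hQ1
        rw [eq_bot_iff]
        intro x hx
        obtain ⟨y, rfl⟩ := e.surjective x
        have h3 : y ∈ Q.comap e.toMonoidHom := hx
        rw [h0, Subgroup.mem_bot] at h3
        rw [h3, map_one]
        exact Subgroup.one_mem _)
    intro x hx
    obtain ⟨y, rfl⟩ := e.surjective x
    refine ⟨y, h2 ?_, rfl⟩
    rw [Subgroup.mem_normalizer_iff] at hx ⊢
    intro z
    have := hx (e z)
    rw [← map_inv, ← map_mul, ← map_mul] at this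
    exact this

theorem card_prod {V W : Type*} [Group V] [Finite V] [Group W] (f : V →* W) (B : Subgroup V) :
    Nat.card B = Nat.card ↥(B.map f) * Nat.card ↥(B ⊓ f.ker) := by
  have h1 := Subgroup.card_eq_card_quotient_mul_card_subgroup (f.comp B.subtype).ker
  rw [Nat.card_congr (QuotientGroup.quotientKerEquivRange (f.comp B.subtype)).toEquiv] at h1
  have h2 : (f.comp B.subtype).range = B.map f := by
    rw [MonoidHom.range_comp, Subgroup.range_subtype]
  rw [h2] at h1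
  rw [h1]
  congr 1
  refine Nat.card_congr ⟨fun x => ⟨x.1.1, x.1.2, x.2⟩, fun x => ⟨⟨x.1, x.2.1⟩, x.2.2⟩, fun _ => rfl, fun _ => rfl⟩

theorem ff_perf {V H : Type*} [Group V] [Finite V] [Group H] [Finite H] {p : ℕ} [Fact p.Prime]
    (hVc : ∀ a b : V, a * b = b * a) (hVp : ∀ v : V, v ^ p = 1) (φ : H →* MulAut V) (hφ : Function.Injective φ)
    (hgenH : Subgroup.closure {x : H | ∃ k : ℕ, orderOf x = p ^ k} = ⊤)
    (X : Subgroup H) (hX : IsStronglyPEmbedded p X) (P : Sylow p H)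
    (hVgen : ∀ W : Subgroup V, (∀ g : H, ∀ w ∈ W, φ g w ∈ W) →
      (∀ v : V, (∀ t ∈ (P : Subgroup H), φ t v = v) → v ∈ W) → W = ⊤)
    (A : Subgroup H) (hA1 : A ≠ ⊥) (hAc : ∀ a ∈ A, ∀ b ∈ A, a * b = b * a) (hAp : ∀ a ∈ A, a ^ p = 1)
    (C : Subgroup V) (hC : ∀ v : V, v ∈ C → ∀ a ∈ A, φ a v = v)
    (hcard : Nat.card V ≤ Nat.card A * Nat.card C) :
    (∀ a ∈ (P : Subgroup H), a ≠ 1 → ∀ C : Subgroup V, (∀ v ∈ C, φ a v = v) →
      Nat.card (P : Subgroup H) * Nat.card C ≤ Nat.card V) ∧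
    (∀ B D : Subgroup V, (∀ a ∈ (P : Subgroup H), ∀ v : V, φ a v * v⁻¹ ∈ B) → (∀ g : H, ∀ d ∈ D, φ g d = d) →
      Nat.card (P : Subgroup H) * Nat.card ↥(B ⊓ D) ≤ Nat.card B) := by
  classical
  have hp : p.Prime := Fact.out
  have : Finite (V ⋊[φ] H) := Finite.of_equiv _ (SemidirectProduct.equivProd).symm
  set V' : Subgroup (V ⋊[φ] H) := (SemidirectProduct.inl : V →* V ⋊[φ] H).range with hV'
  set H' : Subgroup (V ⋊[φ] H) := (SemidirectProduct.inr : H →* V ⋊[φ] H).range with hH'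
  let e : H ≃* H' := MonoidHom.ofInjective SemidirectProduct.inr_injective
  have he : ∀ h : H, ((e h : H') : V ⋊[φ] H) = SemidirectProduct.inr h := fun h => rfl
  have hinl : Function.Injective (SemidirectProduct.inl : V → V ⋊[φ] H) := SemidirectProduct.inl_injective
  have hinr : Function.Injective (SemidirectProduct.inr : H → V ⋊[φ] H) := SemidirectProduct.inr_injective
  have hV'n : V'.Normal := by
    rw [hV', SemidirectProduct.range_inl_eq_ker_rightHom]
    infer_instance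
  have hact : ∀ (h : H) (v : V), (SemidirectProduct.inr h : V ⋊[φ] H) * SemidirectProduct.inl v *
      (SemidirectProduct.inr h)⁻¹ = SemidirectProduct.inl (φ h v) := by
    intro h v
    rw [SemidirectProduct.inl_aut, map_inv]
  -- the Sylow subgroup of `H'`
  let P' : Sylow p H' := P.mapSurjective e.surjective
  have hP' : ((P' : Subgroup H') : Subgroup H') = (P : Subgroup H).map e.toMonoidHom := rfl
  have hmemP' : ∀ h : H, e h ∈ (P' : Subgroup H') ↔ h ∈ (P : Subgroup H) := by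
    intro h
    rw [hP', Subgroup.mem_map_equiv, MulEquiv.symm_apply_apply]
  set T : Subgroup (V ⋊[φ] H) := (P' : Subgroup H').map H'.subtype with hT
  have hmemT : ∀ x, x ∈ T ↔ ∃ a ∈ (P : Subgroup H), SemidirectProduct.inr a = x := by
    intro x
    rw [hT, Subgroup.mem_map]
    constructor
    · rintro ⟨y, hy, rfl⟩
      obtain ⟨a, rfl⟩ := e.surjective y
      exact ⟨a, (hmemP' a).1 hy, rfl⟩
    · rintro ⟨a, ha, rfl⟩
      exact ⟨e a, (hmemP' a).2 ha, rfl⟩
  have hTH : T ≤ H' := by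
    rw [hT]
    exact Subgroup.map_subtype_le _
  have hcentV : ∀ h : H, (SemidirectProduct.inr h : V ⋊[φ] H) ∈ Subgroup.centralizer (V' : Set (V ⋊[φ] H)) →
      h = 1 := by
    intro h hh
    apply hφ
    rw [map_one]
    apply MulEquiv.ext
    intro v
    rw [MulAut.one_apply]
    have h1 := Subgroup.mem_centralizer_iff.1 hh (SemidirectProduct.inl v) ⟨v, rfl⟩
    apply hinl
    rw [← hact, ← h1]
    group
  -- fixed points
  have hfixg : ∀ (B : Subgroup H) (v : V), (SemidirectProduct.inl v : V ⋊[φ] H) ∈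
      Subgroup.centralizer ((B.map (SemidirectProduct.inr : H →* V ⋊[φ] H) : Subgroup (V ⋊[φ] H)) :
        Set (V ⋊[φ] H)) ↔ ∀ a ∈ B, φ a v = v := by
    intro B v
    rw [Subgroup.mem_centralizer_iff]
    constructor
    · intro h a ha
      have h1 := h (SemidirectProduct.inr a) ⟨a, ha, rfl⟩
      apply hinl
      rw [← hact, h1]
      group
    · rintro h _ ⟨a, ha, rfl⟩
      have h1 := hact a v
      rw [h a ha] at h1
      exact mul_inv_eq_iff_eq_mul.1 h1
  have hTmap : T = (P : Subgroup H).map (SemidirectProduct.inr : H →* V ⋊[φ] H) := by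
    ext x
    rw [hmemT]
    rfl
  have hfix : ∀ v : V, (SemidirectProduct.inl v : V ⋊[φ] H) ∈ Subgroup.centralizer (T : Set (V ⋊[φ] H)) ↔
      ∀ a ∈ (P : Subgroup H), φ a v = v := by
    intro v
    rw [hTmap]
    exact hfixg _ v
  have hIE : Cfsg.IsElementaryAbelian p V' := by
    refine ⟨⟨⟨?_⟩⟩, ?_⟩
    · rintro ⟨_, a, rfl⟩ ⟨_, b, rfl⟩
      apply Subtype.ext
      show SemidirectProduct.inl a * SemidirectProduct.inl b = SemidirectProduct.inl b * SemidirectProduct.inl a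
      rw [← map_mul, ← map_mul, hVc]
    · rintro _ ⟨a, rfl⟩
      rw [← map_pow, hVp, map_one]
  have htop : V' ⊔ H' = ⊤ := by
    rw [eq_top_iff]
    intro x _
    rw [← SemidirectProduct.inl_left_mul_inr_right x]
    exact Subgroup.mul_mem_sup ⟨_, rfl⟩ ⟨_, rfl⟩
  have hf : H' ⊓ Subgroup.centralizer (V' : Set (V ⋊[φ] H)) = ⊥ := by
    rw [eq_bot_iff]
    rintro x ⟨⟨h, rfl⟩, hx2⟩
    rw [hcentV h hx2, map_one]
    exact Subgroup.mem_bot.2 rfl
  have hgen' : Cfsg.pElementClosure p H' = H' := by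
    apply le_antisymm
    · unfold pElementClosure
      rw [Subgroup.closure_le]
      rintro x ⟨hx, -⟩
      exact hx
    · have h1 : H' = (Subgroup.closure {x : H | ∃ k : ℕ, orderOf x = p ^ k}).map
          (SemidirectProduct.inr : H →* V ⋊[φ] H) := by
        rw [hgenH, ← MonoidHom.range_eq_map]
      refine h1.le.trans ?_
      rw [MonoidHom.map_closure, Subgroup.closure_le]
      rintro _ ⟨x, ⟨k, hk⟩, rfl⟩
      apply Subgroup.subset_closure
      refine ⟨⟨x, rfl⟩, k, ?_⟩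
      rw [orderOf_injective _ hinr, hk]
  have hX' := strong_map e hX
  have hAfix : Nat.card C ≤ Nat.card ↥(V' ⊓ Subgroup.centralizer
      ((A.map (SemidirectProduct.inr : H →* V ⋊[φ] H) : Subgroup (V ⋊[φ] H)) : Set (V ⋊[φ] H))) := by
    apply Nat.card_le_card_of_injective (fun v : C =>
        (⟨SemidirectProduct.inl (v : V), ⟨⟨v, rfl⟩, (hfixg A v).2 (hC v v.2)⟩⟩ :
          ↥(V' ⊓ Subgroup.centralizer ((A.map (SemidirectProduct.inr : H →* V ⋊[φ] H) :
            Subgroup (V ⋊[φ] H)) : Set (V ⋊[φ] H)))))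
    intro v w hvw
    apply Subtype.ext
    have := congrArg Subtype.val hvw
    exact hinl this
  have hcardV : Nat.card V' = Nat.card V :=
    Nat.card_congr (MonoidHom.ofInjective SemidirectProduct.inl_injective).symm.toEquiv
  have hcardA : Nat.card (A.map (SemidirectProduct.inr : H →* V ⋊[φ] H)) = Nat.card A :=
    Nat.card_congr (Subgroup.equivMapOfInjective _ _ hinr).symm.toEquiv
  have hFF : Cfsg.IsFFModuleFor p V' H' := by
    refine ⟨?_, A.map (SemidirectProduct.inr : H →* V ⋊[φ] H), ?_, ?_, ?_, ?_, ?_, ?_⟩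
    · rw [Subgroup.normalizer_eq_top]
      exact le_top
    · rintro _ ⟨a, _, rfl⟩
      exact ⟨a, rfl⟩
    · rw [Subgroup.normalizer_eq_top]
      exact le_top
    · rw [Subgroup.commutator_le]
      rintro _ ⟨a, ha, rfl⟩ _ ⟨b, hb, rfl⟩
      have : ⁅(SemidirectProduct.inr a : V ⋊[φ] H), (SemidirectProduct.inr b : V ⋊[φ] H)⁆ = 1 := by
        rw [commutatorElement_eq_one_iff_mul_comm, ← map_mul, hAc a ha b hb, map_mul]
      rw [this]
      exact Subgroup.one_mem _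
    · rintro _ ⟨a, ha, rfl⟩
      rw [← map_pow, hAp a ha, map_one]
      exact Subgroup.one_mem _
    · intro hle
      apply hA1
      rw [eq_bot_iff]
      intro a ha
      rw [Subgroup.mem_bot]
      exact hcentV a (hle ⟨a, ha, rfl⟩)
    · have h0 : A.map (SemidirectProduct.inr : H →* V ⋊[φ] H) ⊓
          Subgroup.centralizer (V' : Set (V ⋊[φ] H)) = ⊥ := by
        rw [eq_bot_iff]
        rintro _ ⟨⟨a, ha, rfl⟩, hx2⟩
        rw [hcentV a hx2, map_one]
        exact Subgroup.mem_bot.2 rfl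
      rw [h0, Subgroup.card_bot, mul_one, hcardV, hcardA]
      exact hcard.trans (Nat.mul_le_mul_left _ hAfix)
  have hVgen' : ∀ W : Subgroup (V ⋊[φ] H), H' ≤ Subgroup.normalizer (W : Set (V ⋊[φ] H)) →
      (V' ⊓ Subgroup.centralizer ((T : Subgroup (V ⋊[φ] H)) : Set (V ⋊[φ] H))) ≤ W → V' ≤ W := by
    intro W hW1 hW2
    have h1 := hVgen (W.comap (SemidirectProduct.inl : V →* V ⋊[φ] H)) (fun g w hw => by
      rw [Subgroup.mem_comap] at hw ⊢
      rw [← hact]
      exact (Subgroup.mem_normalizer_iff.1 (hW1 ⟨g, rfl⟩) _).1 hw) (fun v hv => by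
      rw [Subgroup.mem_comap]
      exact hW2 ⟨⟨v, rfl⟩, (hfix v).2 hv⟩)
    rintro _ ⟨v, rfl⟩
    have : v ∈ (W.comap (SemidirectProduct.inl : V →* V ⋊[φ] H)) := by rw [h1]; trivial
    exact this
  have hcentH : ∀ v : V, (SemidirectProduct.inl v : V ⋊[φ] H) ∈
      Subgroup.centralizer ((H' : Subgroup (V ⋊[φ] H)) : Set (V ⋊[φ] H)) ↔ ∀ h : H, φ h v = v := by
    intro v
    have h1 := hfixg ⊤ v
    rw [← MonoidHom.range_eq_map] at h1
    rw [h1]
    simp
  have hnor : (V' ⊓ Subgroup.centralizer ((H' : Subgroup (V ⋊[φ] H)) : Set (V ⋊[φ] H))).Normal := by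
    refine ⟨fun x hx g => ?_⟩
    obtain ⟨⟨v, rfl⟩, hx2⟩ := hx
    have h1 := (hcentH v).1 hx2
    have h2 : g * SemidirectProduct.inl v * g⁻¹ = SemidirectProduct.inl v := by
      rw [← SemidirectProduct.inl_left_mul_inr_right g]
      have h3 := hact g.right v
      rw [h1] at h3
      calc (SemidirectProduct.inl g.left * SemidirectProduct.inr g.right) * SemidirectProduct.inl v *
            (SemidirectProduct.inl g.left * SemidirectProduct.inr g.right)⁻¹
          = SemidirectProduct.inl g.left * ((SemidirectProduct.inr g.right) * SemidirectProduct.inl v *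
            (SemidirectProduct.inr g.right)⁻¹) * (SemidirectProduct.inl g.left)⁻¹ := by group
        _ = SemidirectProduct.inl v := by
            rw [h3, ← map_inv, ← map_mul, ← map_mul, hVc g.left v]
            congr 1
            group
    rw [h2]
    exact ⟨⟨v, rfl⟩, hx2⟩
  obtain ⟨F, hF1, hF2, ⟨iso⟩, hnat⟩ := Cfsg.Agent.S2789.result (p := p) V' H' hIE
    (by rw [Subgroup.normalizer_eq_top]; exact le_top) hf htop hgen' _ hX' P' T hT hVgen' hFF
  set C0 : Subgroup (V ⋊[φ] H) := V' ⊓ Subgroup.centralizer ((H' : Subgroup (V ⋊[φ] H)) : Set (V ⋊[φ] H)) with hC0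
  set π : V ⋊[φ] H →* (V ⋊[φ] H) ⧸ C0 := QuotientGroup.mk' C0 with hπ
  have hker : ∀ x, π x = 1 ↔ x ∈ C0 := fun x => QuotientGroup.eq_one_iff x
  -- the field has characteristic `p`
  have hnat' := hnat
  obtain ⟨hLn, ρ, ψ, hρs, hρk, hρa⟩ := hnat
  have hpF : (p : F) = 0 := by
    obtain ⟨v, hv⟩ := ψ.surjective (fun _ => (1 : F))
    have h1 : p • v = 0 := by
      obtain ⟨v', rfl⟩ := Additive.ofMul.surjective v
      obtain ⟨_, _, ⟨u, rfl⟩, rfl⟩ := v'
      rw [← ofMul_pow]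
      apply Additive.toMul.injective
      apply Subtype.ext
      show (π (SemidirectProduct.inl u)) ^ p = 1
      rw [← map_pow, ← map_pow, hVp, map_one, map_one]
    have h2 := congrArg ψ h1
    rw [map_nsmul, hv, map_zero] at h2
    have h3 := congrFun h2 0
    simpa only [_root_.Fin.isValue, _root_.Pi.smul_apply, _root_.nsmul_eq_mul, _root_.mul_one, _root_.Pi.zero_apply] using h3
  have hchar : CharP F p := (CharP.charP_iff_prime_eq_zero hp).2 hpF
  obtain ⟨n, -, hn⟩ := FiniteField.card F p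
  -- `L̄ ≅ SL₂(F)`
  have hρb : Function.Bijective ρ := by
    have h1 : Nat.card ↥(H'.map π) ≤ Nat.card (Matrix.SpecialLinearGroup (Fin 2) F) := by
      rw [← Nat.card_congr iso.toEquiv]
      exact Nat.card_le_card_of_surjective (π.subgroupMap H') (π.subgroupMap_surjective H')
    exact (Nat.bijective_iff_surjective_and_card ρ).2 ⟨hρs, le_antisymm h1 (Nat.card_le_card_of_surjective ρ hρs)⟩
  have hfb : H'.map π ⊓ Subgroup.centralizer ((V'.map π : Subgroup _) : Set ((V ⋊[φ] H) ⧸ C0)) = ⊥ := by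
    rw [eq_bot_iff]
    rintro x ⟨hx1, hx2⟩
    have h1 : (⟨x, hx1⟩ : ↥(H'.map π)) ∈ ρ.ker := by
      rw [hρk, Subgroup.mem_subgroupOf]
      exact hx2
    have h2 : (⟨x, hx1⟩ : ↥(H'.map π)) = 1 := hρb.1 (by rw [map_one]; exact h1)
    exact Subgroup.mem_bot.2 (congrArg Subtype.val h2)
  -- the Sylow subgroup
  let Pb : Sylow p ↥(H'.map π) := P'.mapSurjective (π.subgroupMap_surjective H')
  set Tb : Subgroup ((V ⋊[φ] H) ⧸ C0) := (Pb : Subgroup ↥(H'.map π)).map (H'.map π).subtype with hTb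
  have hmemTb : ∀ x, x ∈ Tb ↔ ∃ a ∈ (P : Subgroup H), π (SemidirectProduct.inr a) = x := by
    intro x
    constructor
    · rintro ⟨y, ⟨z, hz, rfl⟩, rfl⟩
      obtain ⟨a, rfl⟩ := e.surjective z
      exact ⟨a, (hmemP' a).1 hz, rfl⟩
    · rintro ⟨a, ha, rfl⟩
      exact ⟨π.subgroupMap H' (e a), ⟨e a, (hmemP' a).2 ha, rfl⟩, rfl⟩
  have hinj : Function.Injective (π.comp (SemidirectProduct.inr : H →* V ⋊[φ] H)) := by
    rw [injective_iff_map_eq_one]
    intro a ha
    have h1 := (hker _).1 ha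
    obtain ⟨⟨v, hv⟩, -⟩ := h1
    have := congrArg SemidirectProduct.right hv
    simpa using this.symm
  obtain ⟨c⟩ := H569.NatSL2.exists_coord hn hnat' hfb Pb hTb
  have hP : Nat.card (P : Subgroup H) ≤ p ^ (n : ℕ) := by
    rw [← hn, ← Nat.card_eq_fintype_card]
    apply Nat.card_le_card_of_injective (fun a : (P : Subgroup H) =>
      (c.ρ ⟨π (SemidirectProduct.inr (a : H)), c.le ((hmemTb _).2 ⟨a, a.2, rfl⟩)⟩ : Matrix (Fin 2) (Fin 2) F) 0 1)
    intro a b hab
    obtain ⟨x, hx⟩ := c.eq_u ((hmemTb _).2 ⟨(a : H), a.2, rfl⟩)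
    obtain ⟨y, hy⟩ := c.eq_u ((hmemTb _).2 ⟨(b : H), b.2, rfl⟩)
    simp only [hx, hy] at hab
    have hxy : x = y := by simpa [LieClassical.SLTwoUnipotent.coe_u] using hab
    rw [hxy, ← hy] at hx
    have h1 := congrArg Subtype.val (c.ρ.injective hx)
    exact Subtype.ext (hinj h1)
  obtain ⟨-, hV2, hC2, hall⟩ := Cfsg.Agent.S2779.result (n : ℕ) hn _ _ hnat' hfb Pb Tb hTb
  set f : V →* (V ⋊[φ] H) ⧸ C0 := π.comp (SemidirectProduct.inl : V →* V ⋊[φ] H) with hfdef
  have hftop : (⊤ : Subgroup V).map f = V'.map π := by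
    rw [hfdef, ← Subgroup.map_map, ← MonoidHom.range_eq_map]
  have hfker : ∀ v : V, v ∈ f.ker ↔ ∀ h : H, φ h v = v := by
    intro v
    rw [MonoidHom.mem_ker, ← hcentH]
    show π (SemidirectProduct.inl v) = 1 ↔ _
    rw [hker]
    exact ⟨fun h => h.2, fun h => ⟨⟨v, rfl⟩, h⟩⟩
  have hcV : Nat.card V = p ^ (2 * (n : ℕ)) * Nat.card f.ker := by
    have h1 := card_prod f ⊤
    rw [Subgroup.card_top, hftop, hV2, top_inf_eq] at h1
    exact h1
  constructor
  · intro a ha ha1 C hCa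
    have hs : π (SemidirectProduct.inr a) ∈ Tb := (hmemTb _).2 ⟨a, ha, rfl⟩
    have hs1 : π (SemidirectProduct.inr a) ≠ 1 := by
      intro h0
      exact ha1 (hinj (h0.trans (map_one _).symm))
    obtain ⟨h1, -⟩ := hall _ hs hs1
    have h2 : C.map f ≤ V'.map π ⊓ Subgroup.centralizer ({π (SemidirectProduct.inr a)} : Set _) := by
      rintro _ ⟨v, hv, rfl⟩
      refine ⟨⟨SemidirectProduct.inl v, ⟨v, rfl⟩, rfl⟩, ?_⟩
      show f v ∈ Subgroup.centralizer _
      rw [Subgroup.mem_centralizer_singleton_iff]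
      symm
      show π (SemidirectProduct.inr a) * π (SemidirectProduct.inl v) = π (SemidirectProduct.inl v) *
        π (SemidirectProduct.inr a)
      rw [← map_mul, ← map_mul]
      congr 1
      have := hact a v
      rw [hCa v hv] at this
      exact mul_inv_eq_iff_eq_mul.1 this
    rw [h1] at h2
    have h3 := Subgroup.card_le_of_le h2
    rw [hC2] at h3
    have h4 : Nat.card ↥(C ⊓ f.ker) ≤ Nat.card f.ker := Subgroup.card_le_of_le inf_le_right
    rw [card_prod f C, hcV]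
    calc Nat.card (P : Subgroup H) * (Nat.card ↥(C.map f) * Nat.card ↥(C ⊓ f.ker))
        ≤ p ^ (n : ℕ) * (p ^ (n : ℕ) * Nat.card f.ker) :=
          Nat.mul_le_mul hP (Nat.mul_le_mul h3 h4)
      _ = p ^ (2 * (n : ℕ)) * Nat.card f.ker := by ring
  · intro B D hB hD
    obtain ⟨s, hs, hs1⟩ := c.exists_ne_one
    obtain ⟨-, h1, -⟩ := hall s hs hs1
    have h2 : ⁅V'.map π, Tb⁆ ≤ B.map f := by
      rw [Subgroup.commutator_le]
      rintro _ ⟨_, ⟨v, rfl⟩, rfl⟩ t ht
      obtain ⟨a, ha, rfl⟩ := (hmemTb t).1 ht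
      refine ⟨(φ a v * v⁻¹)⁻¹, B.inv_mem (hB a ha v), ?_⟩
      have key : (SemidirectProduct.inl ((φ a v * v⁻¹)⁻¹) : V ⋊[φ] H) = SemidirectProduct.inl v *
          SemidirectProduct.inr a * (SemidirectProduct.inl v)⁻¹ * (SemidirectProduct.inr a)⁻¹ := by
        rw [map_inv, map_mul, ← hact, map_inv]
        group
      show π (SemidirectProduct.inl ((φ a v * v⁻¹)⁻¹)) = _
      rw [key, commutatorElement_def]
      simp only [map_mul, map_inv]
    rw [h1] at h2
    have h3 := Subgroup.card_le_of_le h2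
    rw [hC2] at h3
    rw [card_prod f B]
    refine Nat.mul_le_mul (hP.trans h3) (Subgroup.card_le_of_le ?_)
    rintro x ⟨hx1, hx2⟩
    exact ⟨hx1, (hfker x).2 fun h => hD h x hx2⟩

section
variable {K : Type*} [Group K] {p : ℕ}

/-- the subgroup generated by the `p`-elements -/
def pcl (K : Type*) [Group K] (p : ℕ) : Subgroup K := Subgroup.closure {x : K | ∃ k : ℕ, orderOf x = p ^ k}

theorem mem_pcl {x : K} [hp : Fact p.Prime] (k : ℕ) (hx : x ^ p ^ k = 1) : x ∈ pcl K p := by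
  obtain ⟨j, -, hj⟩ := (Nat.dvd_prime_pow hp.out).1 (orderOf_dvd_of_pow_eq_one hx)
  exact Subgroup.subset_closure ⟨j, hj⟩

theorem le_pcl [hp : Fact p.Prime] {Q : Subgroup K} (hQ : IsPGroup p Q) : Q ≤ pcl K p := by
  intro x hx
  obtain ⟨k, hk⟩ := hQ ⟨x, hx⟩
  exact mem_pcl k (by simpa only [_root_.SubmonoidClass.mk_pow, _root_.OneMemClass.coe_one] using congrArg Subtype.val hk)

theorem pcl_normal : (pcl K p).Normal := by
  unfold pcl
  refine ⟨fun x hx g => ?_⟩
  refine Subgroup.closure_induction (p := fun y _ => g * y * g⁻¹ ∈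
    Subgroup.closure {x : K | ∃ k : ℕ, orderOf x = p ^ k}) ?_ ?_ ?_ ?_ hx
  · rintro z ⟨k, hz⟩
    apply Subgroup.subset_closure
    refine ⟨k, ?_⟩
    rw [← hz]
    exact MulEquiv.orderOf_eq (MulAut.conj g) z
  · simp
  · intro a b _ _ ha hb
    have := Subgroup.mul_mem _ ha hb
    simpa only [mul_assoc, inv_mul_cancel_left] using this
  · intro a _ ha
    have := Subgroup.inv_mem _ ha
    simpa only [mul_inv_rev, inv_inv, mul_assoc] using this

/-- `K = O^{p'}(K) N_K(T)` -/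
theorem frat [Finite K] [hp : Fact p.Prime] (T : Sylow p K) (k : K) :
    ∃ l ∈ pcl K p, ∃ n ∈ Subgroup.normalizer ((T : Subgroup K) : Set K), k = l * n := by
  obtain ⟨h, hh, hT⟩ := EvenType.StrongP.sylow_conj_in (Y := pcl K p) T (k • T) (le_pcl T.isPGroup')
    (le_pcl (k • T).isPGroup')
  refine ⟨h, hh, h⁻¹ * k, ?_, by group⟩
  rw [EvenType.StrongP.mem_norm, EvenType.StrongP.map_conj_mul]
  have h1 : ((k • T : Sylow p K) : Subgroup K) = (T : Subgroup K).map (MulAut.conj k).toMonoidHom := by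
    rw [Sylow.coe_subgroup_smul]
    rfl
  rw [← h1, ← hT, ← EvenType.StrongP.map_conj_mul, inv_mul_cancel, EvenType.StrongP.map_conj_one]

theorem strong_pcl [Finite K] [hp : Fact p.Prime] {X : Subgroup K} (hX : IsStronglyPEmbedded p X) :
    IsStronglyPEmbedded p (X.subgroupOf (pcl K p)) := by
  have hN := EvenType.StrongP.normIn hX
  obtain ⟨h1, h2, P, hP⟩ := hX
  have hPX := EvenType.StrongP.sylow_le h1 hP
  have hP1 := EvenType.StrongP.sylow_ne_bot h1 P
  apply EvenType.StrongP.of_normIn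
  · have h3 : p ∣ Nat.card (P : Subgroup K) := P.dvd_card_of_dvd_card h1
    have h4 : (P : Subgroup K).subgroupOf (pcl K p) ≤ X.subgroupOf (pcl K p) := fun x hx => hPX hx
    refine h3.trans (dvd_trans ?_ (Subgroup.card_dvd_of_le h4))
    rw [Nat.card_congr (Subgroup.subgroupOfEquivOfLe (le_pcl P.isPGroup')).toEquiv]
  · intro h
    rw [Subgroup.subgroupOf_eq_top] at h
    apply h2
    rw [eq_top_iff]
    intro k _
    obtain ⟨l, hl, n, hn, rfl⟩ := frat P k
    exact X.mul_mem (h hl) (hN P P.isPGroup' hPX hP1 hn)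
  · intro Q hQ hQX hQ1
    have h3 := hN (Q.map (pcl K p).subtype) (hQ.map _) (by
      rintro _ ⟨x, hx, rfl⟩
      exact hQX hx) (by
      intro h0
      rw [Subgroup.map_eq_bot_iff_of_injective _ (pcl K p).subtype_injective] at h0
      exact hQ1 h0)
    intro x hx
    rw [Subgroup.mem_subgroupOf]
    apply h3
    rw [Subgroup.mem_normalizer_iff] at hx ⊢
    intro z
    constructor
    · rintro ⟨y, hy, rfl⟩
      exact ⟨x * y * x⁻¹, (hx y).1 hy, rfl⟩
    · rintro ⟨y, hy, hyz⟩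
      refine ⟨x⁻¹ * y * x, ?_, ?_⟩
      · show _ ∈ Q
        rw [hx]
        have : x * (x⁻¹ * y * x) * x⁻¹ = y := by group
        rw [this]
        exact hy
      · have h4 : ((pcl K p).subtype y : K) = x * z * (x : K)⁻¹ := hyz
        show (x : K)⁻¹ * ((pcl K p).subtype y : K) * x = z
        rw [h4]
        group

theorem closure_top_pcl [Fact p.Prime] :
    Subgroup.closure {x : ↥(pcl K p) | ∃ k : ℕ, orderOf x = p ^ k} = ⊤ := by
  rw [eq_top_iff]
  rintro ⟨x, hx⟩ -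
  have h1 : ∀ y ∈ pcl K p, y ∈ (Subgroup.closure {x : ↥(pcl K p) | ∃ k : ℕ, orderOf x = p ^ k}).map
      (pcl K p).subtype := by
    intro y hy
    unfold pcl at hy
    refine (Subgroup.closure_le _).2 ?_ hy
    rintro z ⟨k, hz⟩
    refine ⟨⟨z, Subgroup.subset_closure ⟨k, hz⟩⟩, Subgroup.subset_closure ⟨k, ?_⟩, rfl⟩
    rw [← hz]
    exact Subgroup.orderOf_mk _ _
  obtain ⟨y, hy, hyx⟩ := h1 x hx
  have : y = ⟨x, hx⟩ := Subtype.ext hyx
  rwa [← this]

end

theorem ff_abs {V K : Type*} [Group V] [Finite V] [Group K] [Finite K] {p : ℕ} [Fact p.Prime]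
    (hVc : ∀ a b : V, a * b = b * a) (hVp : ∀ v : V, v ^ p = 1) (φ : K →* MulAut V) (hφ : Function.Injective φ)
    (X : Subgroup K) (hX : IsStronglyPEmbedded p X) (T : Sylow p K)
    (hgen : ∀ W : Subgroup V, (∀ g : K, ∀ w ∈ W, φ g w ∈ W) →
      (∀ v : V, (∀ t ∈ (T : Subgroup K), φ t v = v) → v ∈ W) → W = ⊤)
    (A : Subgroup K) (hAT : A ≤ (T : Subgroup K)) (hA1 : A ≠ ⊥) (hAc : ∀ a ∈ A, ∀ b ∈ A, a * b = b * a)
    (hAp : ∀ a ∈ A, a ^ p = 1) (C : Subgroup V) (hC : ∀ v : V, v ∈ C ↔ ∀ a ∈ A, φ a v = v)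
    (hcard : Nat.card V ≤ Nat.card A * Nat.card C) :
    A = (T : Subgroup K) ∧ Nat.card V = Nat.card A * Nat.card C ∧
      ∀ D : Subgroup V, (∀ g : K, ∀ d ∈ D, φ g d ∈ D) → (∀ a ∈ A, ∀ d ∈ D, φ a d = d) →
      ∀ B : Subgroup V, (∀ a ∈ A, ∀ v : V, φ a v * v⁻¹ ∈ B) → Nat.card A * Nat.card ↥(B ⊓ D) ≤ Nat.card B := by
  classical
  have hTL : (T : Subgroup K) ≤ pcl K p := le_pcl T.isPGroup'
  let TL : Sylow p ↥(pcl K p) := T.subtype hTL
  have hmemTL : ∀ x : ↥(pcl K p), x ∈ (TL : Subgroup ↥(pcl K p)) ↔ (x : K) ∈ (T : Subgroup K) := fun x => Iff.rfl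
  have hcardT : Nat.card (TL : Subgroup ↥(pcl K p)) = Nat.card (T : Subgroup K) :=
    Nat.card_congr (Subgroup.subgroupOfEquivOfLe hTL).toEquiv
  have hAL : A ≤ pcl K p := hAT.trans hTL
  have hcardA : Nat.card (A.subgroupOf (pcl K p)) = Nat.card A :=
    Nat.card_congr (Subgroup.subgroupOfEquivOfLe hAL).toEquiv
  obtain ⟨h1, h2⟩ := ff_perf (H := ↥(pcl K p)) hVc hVp (φ.comp (pcl K p).subtype)
    (hφ.comp (pcl K p).subtype_injective) closure_top_pcl _ (strong_pcl hX) TL (by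
      intro W hW hWT
      -- `W` contains all conjugates of the fixed points of `T`
      have hW0 : Subgroup.closure {y : V | ∃ k : K, ∃ v : V, (∀ t ∈ (T : Subgroup K), φ t v = v) ∧ y = φ k v} = ⊤ := by
        apply hgen
        · intro g w hw
          refine Subgroup.closure_induction (p := fun w _ => φ g w ∈ Subgroup.closure
            {y : V | ∃ k : K, ∃ v : V, (∀ t ∈ (T : Subgroup K), φ t v = v) ∧ y = φ k v}) ?_ ?_ ?_ ?_ hw
          · rintro _ ⟨k, v, hv, rfl⟩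
            exact Subgroup.subset_closure ⟨g * k, v, hv, by rw [map_mul]; rfl⟩
          · rw [map_one]; exact Subgroup.one_mem _
          · intro a b _ _ ha hb
            rw [map_mul]
            exact Subgroup.mul_mem _ ha hb
          · intro a _ ha
            rw [map_inv]
            exact Subgroup.inv_mem _ ha
        · intro v hv
          exact Subgroup.subset_closure ⟨1, v, hv, by rw [map_one]; rfl⟩
      rw [eq_top_iff, ← hW0, Subgroup.closure_le]
      rintro _ ⟨k, v, hv, rfl⟩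
      obtain ⟨l, hl, n, hn, rfl⟩ := frat T k
      rw [map_mul, MulAut.mul_apply]
      apply hW ⟨l, hl⟩
      apply hWT
      intro t ht
      show φ (t : K) (φ n v) = φ n v
      rw [← MulAut.mul_apply, ← map_mul]
      have h3 : n⁻¹ * (t : K) * n ∈ (T : Subgroup K) := by
        have := (Subgroup.mem_normalizer_iff.1 (Subgroup.inv_mem _ hn) (t : K)).1 ht
        simpa only [_root_.inv_inv] using this
      have h4 : (t : K) * n = n * (n⁻¹ * (t : K) * n) := by group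
      rw [h4, map_mul, MulAut.mul_apply, hv _ h3])
    (A.subgroupOf (pcl K p))
    (by
      intro h0
      apply hA1
      rw [eq_bot_iff]
      intro a ha
      have h3 : (⟨a, hAL ha⟩ : ↥(pcl K p)) ∈ A.subgroupOf (pcl K p) := ha
      rw [h0, Subgroup.mem_bot] at h3
      exact Subgroup.mem_bot.2 (congrArg Subtype.val h3))
    (fun a ha b hb => Subtype.ext (hAc a ha b hb)) (fun a ha => Subtype.ext (hAp a ha)) C
    (fun v hv a ha => (hC v).1 hv a ha) (by rw [hcardA]; exact hcard)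
  rw [hcardT] at h1 h2
  obtain ⟨a, ha, ha1⟩ := (Subgroup.bot_or_exists_ne_one A).resolve_left hA1
  have h3 := h1 ⟨a, hAL ha⟩ (hAT ha) (fun h => ha1 (congrArg Subtype.val h)) C (fun v hv => (hC v).1 hv a ha)
  have hC0 : 0 < Nat.card C := Nat.card_pos
  have h4 : Nat.card (T : Subgroup K) ≤ Nat.card A := Nat.le_of_mul_le_mul_right (h3.trans hcard) hC0
  have hAT' : A = (T : Subgroup K) := Subgroup.eq_of_le_of_card_ge hAT h4
  refine ⟨hAT', le_antisymm hcard ?_, ?_⟩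
  · rw [hAT']
    exact h3
  · intro D hD1 hD2 B hB
    rw [hAT']
    apply h2 B D
    · intro t ht v
      exact hB t (by rw [hAT']; exact ht) v
    · rintro ⟨g, hg⟩ d hd
      show φ g d = d
      -- the elements fixing `D` pointwise contain all conjugates of `T`
      have h6 : ∀ x ∈ pcl K p, ∀ d ∈ D, φ x d = d := by
        intro x hx
        unfold pcl at hx
        refine Subgroup.closure_induction (p := fun x _ => ∀ d ∈ D, φ x d = d) ?_ ?_ ?_ ?_ hx
        · rintro z ⟨k, hz⟩ d hd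
          obtain ⟨Q, hQ⟩ := (IsPGroup.of_card (p := p) (n := k) (by rw [Nat.card_zpowers, hz]) :
            IsPGroup p (Subgroup.zpowers z)).exists_le_sylow
          obtain ⟨g, hg⟩ := MulAction.exists_smul_eq K T Q
          have h7 : g⁻¹ * z * g ∈ (T : Subgroup K) := by
            have h8 : z ∈ (Q : Subgroup K) := hQ (Subgroup.mem_zpowers z)
            rw [← hg, Sylow.coe_subgroup_smul] at h8
            obtain ⟨y, hy, hyz⟩ := h8
            have h9 : g * y * g⁻¹ = z := hyz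
            rw [← h9]
            have : g⁻¹ * (g * y * g⁻¹) * g = y := by group
            rw [this]
            exact hy
          rw [← hAT'] at h7
          have h8 : z = g * (g⁻¹ * z * g) * g⁻¹ := by group
          rw [h8, map_mul, map_mul, MulAut.mul_apply, MulAut.mul_apply, hD2 _ h7 _ (hD1 g⁻¹ d hd),
            ← MulAut.mul_apply, ← map_mul, mul_inv_cancel, map_one]
          rfl
        · intro d _
          rw [map_one]; rfl
        · intro a b _ _ ha hb d hd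
          rw [map_mul, MulAut.mul_apply, hb d hd, ha d hd]
        · intro a _ ha d hd
          have := ha d hd
          rw [map_inv]
          rw [MulAut.inv_apply, MulEquiv.symm_apply_eq, this]
      exact h6 g hg d hd

end Cfsg.Agent.H302.PU
end

-- part: H52/PU/StFF
section
/-!
# S5258 (G2): the failure-of-factorization lemma (helper52, helper302)
-/

set_option autoImplicit false

namespace Cfsg.Agent.H52.PU

open Cfsg Cfsg.Agent.H756.PU

universe u

/-- (G2) -/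
theorem stFF : StFF.{u} :=
  ff_of fun hVc hVp φ hφ X hX T hgen A hAT hA1 hAc hAp C hC hcard =>
    H302.PU.ff_abs hVc hVp φ hφ X hX T hgen A hAT hA1 hAc hAp C hC hcard

end Cfsg.Agent.H52.PU
end

private theorem dce_0ad3af868ae4 : _root_.True := by
  try have : _root_.True := by simp only [_root_.Cfsg.Agent.H52.PU.act.congr_simp]
  exact _root_.True.intro
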